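import Groth.Agent.Alg6.AssDepth
import Groth.Agent.Alg6.LocLoc
import Groth.Agent.LC.DepthExt
import Groth.Agent.LC.ExtDim
import Groth.Agent.GrLib8.GrCM
import Mathlib

/-!
# Regular sequences in neighbourhoods and embedded primes of the quotients
-/

set_option autoImplicit false
set_option linter.style.haveILetI false

namespace Groth.Agent.H1Sk

universe u

open RingTheory.Sequence IsLocalRing

theorem mem_smul_top_iff {R : Type u} [CommRing R] {M N : Type u} [AddCommGroup M] [AddCommGroup N]
    [Module R M] [Module R N] (S : Submonoid R) (f : M →ₗ[R] N) [IsLocalizedModule S f] (J : Ideal R) (x : M) :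
    f x ∈ (J • ⊤ : Submodule R N) ↔ ∃ s ∈ S, s • x ∈ (J • ⊤ : Submodule R M) := by
  constructor
  · intro h
    have key : ∀ y ∈ (J • ⊤ : Submodule R N), ∃ s ∈ S, ∃ m ∈ (J • ⊤ : Submodule R M), s • y = f m := by
      intro y hy
      refine Submodule.smul_induction_on hy (fun r hr n _ => ?_) (fun a b ha hb => ?_)
      · obtain ⟨⟨m, s⟩, hm⟩ := IsLocalizedModule.surj S f n
        exact ⟨s, s.2, r • m, Submodule.smul_mem_smul hr Submodule.mem_top, by
          rw [smul_comm, map_smul]; exact congrArg (r • ·) hm⟩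
      · obtain ⟨s, hs, m, hm, he⟩ := ha
        obtain ⟨t, ht, m', hm', he'⟩ := hb
        refine ⟨s * t, mul_mem hs ht, t • m + s • m',
          add_mem (Submodule.smul_mem _ _ hm) (Submodule.smul_mem _ _ hm'), ?_⟩
        rw [map_add, map_smul, map_smul, ← he, ← he', smul_add, smul_smul, smul_smul, mul_comm t s]
    obtain ⟨s, hs, m, hm, he⟩ := key _ h
    rw [← map_smul] at he
    obtain ⟨c, hc⟩ := (IsLocalizedModule.eq_iff_exists S f).1 he
    refine ⟨c * s, mul_mem c.2 hs, ?_⟩
    rw [Submonoid.smul_def, Submonoid.smul_def] at hc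
    rw [mul_smul, hc]
    exact Submodule.smul_mem _ _ hm
  · rintro ⟨s, hs, h⟩
    have h1 : f (s • x) ∈ (J • ⊤ : Submodule R N) := by
      have : Submodule.map f (J • ⊤) ≤ (J • ⊤ : Submodule R N) := by
        rw [Submodule.map_smul'']; exact Submodule.smul_mono le_rfl le_top
      exact this ⟨_, h, rfl⟩
    rw [map_smul] at h1
    have hu := IsLocalizedModule.map_units f (⟨s, hs⟩ : S)
    obtain ⟨e, he⟩ := hu
    have h2 : ∀ y ∈ (J • ⊤ : Submodule R N), (↑e⁻¹ : Module.End R N) y ∈ (J • ⊤ : Submodule R N) := by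
      intro y hy
      refine Submodule.smul_induction_on hy (fun r hr n _ => ?_) (fun a b ha hb => ?_)
      · rw [map_smul]; exact Submodule.smul_mem_smul hr Submodule.mem_top
      · rw [map_add]; exact add_mem ha hb
    have h3 := h2 _ h1
    rwa [show s • f x = (e : Module.End R N) (f x) by rw [he]; rfl, ← Module.End.mul_apply, e.inv_mul,
      Module.End.one_apply] at h3

/-- Regularity of a sequence at a prime spreads to a basic neighbourhood. -/
theorem exists_away {A : Type u} [CommRing A] [IsNoetherianRing A] {M : Type u} [AddCommGroup M] [Module A M]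
    [Module.Finite A M] (p : Ideal A) [p.IsPrime] (as : List A)
    (h : IsWeaklyRegular (LocalizedModule p.primeCompl M) as) :
    ∃ g : A, g ∉ p ∧ IsWeaklyRegular (LocalizedModule (Submonoid.powers g) M) as := by
  classical
  let J : ℕ → Ideal A := fun i => Ideal.ofList (as.take i)
  have hex : ∀ i : Fin as.length, ∃ t ∉ p, ∀ x : M, as[i] • x ∈ (J i • ⊤ : Submodule A M) →
      t • x ∈ (J i • ⊤ : Submodule A M) := by
    intro i
    let K : Submodule A M := (J i • ⊤ : Submodule A M).comap (LinearMap.lsmul A M as[i])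
    obtain ⟨T, hT⟩ := IsNoetherian.noetherian K
    have hx : ∀ x ∈ T, ∃ t ∉ p, t • x ∈ (J i • ⊤ : Submodule A M) := by
      intro x hx
      have hxK : x ∈ K := hT ▸ Submodule.subset_span hx
      have h1 : LocalizedModule.mkLinearMap p.primeCompl M (as[i] • x) ∈
          (J i • ⊤ : Submodule A (LocalizedModule p.primeCompl M)) :=
        (mem_smul_top_iff p.primeCompl _ (J i) _).2 ⟨1, one_mem _, by rw [one_smul]; exact hxK⟩
      rw [map_smul] at h1
      have h2 := (h.regular_mod_prev i i.2)
      have h3 : LocalizedModule.mkLinearMap p.primeCompl M x ∈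
          (J i • ⊤ : Submodule A (LocalizedModule p.primeCompl M)) := by
        rw [← Submodule.Quotient.mk_eq_zero]
        apply h2
        simp only [smul_zero, ← Submodule.Quotient.mk_smul]
        exact (Submodule.Quotient.mk_eq_zero _).2 h1
      obtain ⟨s, hs, hsx⟩ := (mem_smul_top_iff p.primeCompl _ (J i) _).1 h3
      exact ⟨s, hs, hsx⟩
    choose! t ht htx using hx
    refine ⟨∏ x ∈ T, t x, show _ ∈ p.primeCompl from prod_mem fun x hx => ht x hx, fun x hx => ?_⟩
    have hxK : x ∈ K := hx
    rw [← hT] at hxK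
    clear hx
    induction hxK using Submodule.span_induction with
    | mem y hy =>
      obtain ⟨c, hc⟩ := Finset.dvd_prod_of_mem t hy
      rw [hc, mul_comm, mul_smul]
      exact Submodule.smul_mem _ _ (htx y hy)
    | zero => rw [smul_zero]; exact zero_mem _
    | add a b _ _ ha hb => rw [smul_add]; exact add_mem ha hb
    | smul c a _ ha => rw [smul_comm]; exact Submodule.smul_mem _ _ ha
  choose t ht htx using hex
  let g := ∏ i, t i
  refine ⟨g, show g ∈ p.primeCompl from prod_mem fun i _ => ht i, ⟨fun i hi => ?_⟩⟩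
  rw [isSMulRegular_iff_right_eq_zero_of_smul]
  intro z hz
  obtain ⟨y, rfl⟩ := Submodule.Quotient.mk_surjective _ z
  rw [← Submodule.Quotient.mk_smul, Submodule.Quotient.mk_eq_zero] at hz
  rw [Submodule.Quotient.mk_eq_zero]
  let f := LocalizedModule.mkLinearMap (Submonoid.powers g) M
  obtain ⟨⟨x, s⟩, hxs⟩ := IsLocalizedModule.surj (Submonoid.powers g) f y
  have h1 : f (as[i] • x) ∈ (J i • ⊤ : Submodule A (LocalizedModule (Submonoid.powers g) M)) := by
    rw [map_smul, show f x = (s : A) • y from hxs.symm, smul_comm]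
    exact Submodule.smul_mem _ _ hz
  obtain ⟨c, hc, hcx⟩ := (mem_smul_top_iff (Submonoid.powers g) f (J i) _).1 h1
  rw [smul_comm] at hcx
  have h2 := htx ⟨i, hi⟩ (c • x) hcx
  obtain ⟨d, hd⟩ := Finset.dvd_prod_of_mem t (Finset.mem_univ (⟨i, hi⟩ : Fin as.length))
  have h3 : (g * c) • x ∈ (J i • ⊤ : Submodule A M) := by
    have hd' : g = t ⟨i, hi⟩ * d := hd
    rw [hd', mul_comm (t _) d, mul_assoc, mul_smul, mul_smul]
    exact Submodule.smul_mem _ _ h2
  have h4 : f x ∈ (J i • ⊤ : Submodule A (LocalizedModule (Submonoid.powers g) M)) :=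
    (mem_smul_top_iff (Submonoid.powers g) f (J i) _).2 ⟨g * c, mul_mem (Submonoid.mem_powers g) hc, h3⟩
  obtain ⟨e, he⟩ := IsLocalizedModule.map_units f s
  have hy : y = (↑e⁻¹ : Module.End A _) (f x) := by
    rw [show f x = (e : Module.End A _) y by rw [he]; exact hxs.symm, ← Module.End.mul_apply, e.inv_mul]; rfl
  rw [hy]
  have key : ∀ w ∈ (J i • ⊤ : Submodule A (LocalizedModule (Submonoid.powers g) M)),
      (↑e⁻¹ : Module.End A _) w ∈ (J i • ⊤ : Submodule A (LocalizedModule (Submonoid.powers g) M)) := by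
    intro w hw
    refine Submodule.smul_induction_on hw (fun r hr n _ => ?_) (fun a b ha hb => ?_)
    · rw [map_smul]; exact Submodule.smul_mem_smul hr Submodule.mem_top
    · rw [map_add]; exact add_mem ha hb
  exact key _ h4

section

variable {R : Type u} [CommRing R] [IsNoetherianRing R] {N : Type u} [AddCommGroup N] [Module R N] [Module.Finite R N]

instance finite_localized (P : Ideal R) [P.IsPrime] :
    Module.Finite (Localization.AtPrime P) (LocalizedModule P.primeCompl N) :=
  Module.Finite.of_isLocalizedModule P.primeCompl (LocalizedModule.mkLinearMap _ N)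

theorem restrictScalars_smul_top {A C : Type u} [CommRing A] [CommRing C] [Algebra A C] {X : Type u} [AddCommGroup X]
    [Module A X] [Module C X] [IsScalarTower A C X] (J : Ideal A) (x : X) :
    x ∈ (J.map (algebraMap A C) • ⊤ : Submodule C X) ↔ x ∈ (J • ⊤ : Submodule A X) := by
  rw [← Submodule.restrictScalars_mem A, Ideal.smul_restrictScalars, Submodule.restrictScalars_top]

/-- An associated prime of a quotient by a regular sequence has depth the length of the sequence. -/
theorem depth_eq_of_mem_ass (as : List R) (h : IsWeaklyRegular N as) (P : Ideal R) [P.IsPrime]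
    (hP : P ∈ associatedPrimes R (N ⧸ (Ideal.ofList as • ⊤ : Submodule R N))) :
    Nontrivial (LocalizedModule P.primeCompl N) ∧
      LocCoh.depth (Localization.AtPrime P) (LocalizedModule P.primeCompl N) = as.length := by
  obtain ⟨-, z, hz⟩ := Alg6.mem_ass_iff.1 hP
  obtain ⟨z, rfl⟩ := Submodule.Quotient.mk_surjective _ z
  simp only [← Submodule.Quotient.mk_smul, Submodule.Quotient.mk_eq_zero] at hz
  have hJP : ∀ a ∈ as, a ∈ P := fun a ha =>
    (hz a).2 (Submodule.smul_mem_smul (Ideal.subset_span ha) Submodule.mem_top)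
  let C := Localization.AtPrime P
  let NP := LocalizedModule P.primeCompl N
  let f := LocalizedModule.mkLinearMap P.primeCompl N
  have hzero : f z ∉ (Ideal.ofList as • ⊤ : Submodule R NP) := by
    intro hm
    obtain ⟨s, hs, hsz⟩ := (mem_smul_top_iff P.primeCompl f _ _).1 hm
    exact hs ((hz s).2 hsz)
  have hnt : Nontrivial NP := ⟨⟨f z, 0, fun e => hzero (e ▸ zero_mem _)⟩⟩
  refine ⟨hnt, ?_⟩
  let rs := as.map (algebraMap R C)
  have hrs : IsWeaklyRegular NP rs :=
    h.of_isLocalizedModule C P.primeCompl f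
  have hmem : ∀ r ∈ rs, r ∈ maximalIdeal C := by
    intro r hr
    obtain ⟨a, ha, rfl⟩ := List.mem_map.1 hr
    exact Alg6.mem_maximalIdeal_iff P |>.2 (hJP a ha)
  have h0 := LC.idealDepth_quot_ofList (I := maximalIdeal C) hrs hmem
  have hlist : Ideal.ofList rs = (Ideal.ofList as).map (algebraMap R C) := (Ideal.map_ofList _ _).symm
  let w : NP ⧸ (Ideal.ofList rs • ⊤ : Submodule C NP) := Submodule.Quotient.mk (f z)
  have hw : w ≠ 0 := fun e => hzero (by
    rw [Submodule.Quotient.mk_eq_zero, hlist] at e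
    exact (restrictScalars_smul_top _ _).1 e)
  have hkill : ∀ a ∈ maximalIdeal C, a • w = 0 := by
    intro a ha
    rw [← Localization.AtPrime.map_eq_maximalIdeal, Ideal.map] at ha
    induction ha using Submodule.span_induction with
    | mem y hy =>
      obtain ⟨b, hb, rfl⟩ := hy
      rw [← Submodule.Quotient.mk_smul, Submodule.Quotient.mk_eq_zero, hlist, restrictScalars_smul_top,
        algebraMap_smul, ← map_smul]
      exact (mem_smul_top_iff P.primeCompl f _ _).2 ⟨1, one_mem _, by rw [one_smul]; exact (hz b).1 hb⟩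
    | zero => rw [zero_smul]
    | add a b _ _ ha hb => rw [add_smul, ha, hb, add_zero]
    | smul c a _ ha => rw [smul_eq_mul, mul_smul, ha, smul_zero]
  have hm : maximalIdeal C ∈ associatedPrimes C (NP ⧸ (Ideal.ofList rs • ⊤ : Submodule C NP)) := by
    obtain ⟨Q, hQ, hle⟩ := Alg6.exists_ass_ge (R := C) hw
    rwa [(maximalIdeal.isMaximal C).eq_of_le hQ.isPrime.ne_top fun a ha => hle a (hkill a ha)]
  have h1 : ¬ (1 : ℕ∞) ≤ LocCoh.depth C (NP ⧸ (Ideal.ofList rs • ⊤ : Submodule C NP)) := fun h =>
    Alg6.one_le_depth_iff.1 h hm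
  rw [Order.one_le_iff_ne_zero, not_ne_iff] at h1
  rw [LocCoh.depth] at h1
  rw [h1, zero_add] at h0
  rw [LocCoh.depth, ← h0, List.length_map]

/-- No embedded primes modulo short regular sequences. -/
theorem eq_of_le_of_hasSk {k : ℕ} (hS : LocCoh.HasSk k R N) (as : List R) (hk : as.length < k)
    (h : IsWeaklyRegular N as) {p q : Ideal R}
    (hp : p ∈ associatedPrimes R (N ⧸ (Ideal.ofList as • ⊤ : Submodule R N)))
    (hq : q ∈ associatedPrimes R (N ⧸ (Ideal.ofList as • ⊤ : Submodule R N))) (hpq : p ≤ q) : p = q := by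
  by_contra hne
  haveI := hp.isPrime
  haveI := hq.isPrime
  obtain ⟨hntp, hdp⟩ := depth_eq_of_mem_ass as h p hp
  obtain ⟨hntq, hdq⟩ := depth_eq_of_mem_ass as h q hq
  have h1 := GrLib8.GrCM.supportDim_localized_add_one_le (M := N) (⟨p, inferInstance⟩ : PrimeSpectrum R) ⟨q, inferInstance⟩
    (lt_of_le_of_ne hpq fun e => hne (congrArg PrimeSpectrum.asIdeal e))
  have h2 := LC.depth_le_supportDim (R := Localization.AtPrime p) (M := LocalizedModule p.primeCompl N)
  rw [hdp] at h2
  have h3 := hS q
  rw [hdq] at h3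
  revert h1 h2 h3
  generalize Module.supportDim (Localization.AtPrime p) (LocalizedModule p.primeCompl N) = dp
  generalize Module.supportDim (Localization.AtPrime q) (LocalizedModule q.primeCompl N) = dq
  intro h1 h2 h3
  rcases min_le_iff.1 h3 with h3 | h3
  · exact absurd h3 (not_le.2 (by exact_mod_cast hk))
  · have h4 : ((as.length + 1 : ℕ) : WithBot ℕ∞) ≤ (as.length : ℕ) := by
      refine le_trans ?_ h3
      refine le_trans ?_ h1
      push_cast
      exact add_le_add_left h2 1
    have : as.length + 1 ≤ as.length := by exact_mod_cast h4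
    omega

end

/-- A point with too small depth gives an embedded prime. -/
theorem exists_embedded {A : Type u} [CommRing A] [IsNoetherianRing A] {M : Type u} [AddCommGroup M] [Module A M]
    [Module.Finite A M] (p : Ideal A) [p.IsPrime] (r : ℕ)
    (hd : LocCoh.depth (Localization.AtPrime p) (LocalizedModule p.primeCompl M) = r)
    (hdim : (r : WithBot ℕ∞) < Module.supportDim (Localization.AtPrime p) (LocalizedModule p.primeCompl M)) :
    ∃ (g : A) (rs : List (Localization.Away g)), rs.length = r ∧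
      IsWeaklyRegular (LocalizedModule (Submonoid.powers g) M) rs ∧
      ∃ P ∈ associatedPrimes (Localization.Away g) (LocalizedModule (Submonoid.powers g) M ⧸
          (Ideal.ofList rs • ⊤ : Submodule (Localization.Away g) (LocalizedModule (Submonoid.powers g) M))),
        ∃ Q ∈ associatedPrimes (Localization.Away g) (LocalizedModule (Submonoid.powers g) M ⧸
          (Ideal.ofList rs • ⊤ : Submodule (Localization.Away g) (LocalizedModule (Submonoid.powers g) M))),
          Q ≤ P ∧ Q ≠ P := by
  classical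
  let C := Localization.AtPrime p
  let Mp := LocalizedModule p.primeCompl M
  let fp := LocalizedModule.mkLinearMap p.primeCompl M
  haveI : Module.Finite C Mp := finite_localized p
  haveI : Nontrivial Mp := by
    by_contra hc
    rw [not_nontrivial_iff_subsingleton] at hc
    rw [Module.supportDim_eq_bot_of_subsingleton] at hdim
    exact not_lt_bot hdim
  have hseq : ∀ j ≤ r, ∃ as : List A, as.length = j ∧ (∀ a ∈ as, a ∈ p) ∧ IsWeaklyRegular Mp as := by
    intro j
    induction j with
    | zero => exact fun _ => ⟨[], rfl, by simp, .nil A Mp⟩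
    | succ j ih =>
      intro hj
      obtain ⟨as, hlen, hmem, hreg⟩ := ih (Nat.le_of_succ_le hj)
      let rs := as.map (algebraMap A C)
      have hrs : IsWeaklyRegular Mp rs := (isWeaklyRegular_map_algebraMap_iff C Mp as).2 hreg
      have hmem' : ∀ r ∈ rs, r ∈ maximalIdeal C := by
        intro r hr
        obtain ⟨a, ha, rfl⟩ := List.mem_map.1 hr
        exact Alg6.mem_maximalIdeal_iff p |>.2 (hmem a ha)
      have h0 := LC.idealDepth_quot_ofList (I := maximalIdeal C) hrs hmem'
      have h1 : (1 : ℕ∞) ≤ LocCoh.depth C (Mp ⧸ (Ideal.ofList rs • ⊤ : Submodule C Mp)) := by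
        by_contra hlt
        rw [Order.one_le_iff_ne_zero, not_ne_iff, LocCoh.depth] at hlt
        rw [hlt, zero_add, List.length_map, hlen] at h0
        rw [LocCoh.depth, ← h0] at hd
        have : j = r := by exact_mod_cast hd
        omega
      obtain ⟨x, hx, hxreg⟩ := (Alg6.exists_isSMulRegular_mem_iff (M := Mp ⧸ (Ideal.ofList rs • ⊤ : Submodule C Mp))
        (maximalIdeal C)).2 fun P hP hle =>
          Alg6.one_le_depth_iff.1 h1 (((maximalIdeal.isMaximal C).eq_of_le hP.isPrime.ne_top hle) ▸ hP)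
      obtain ⟨⟨a, s⟩, has⟩ := IsLocalization.surj p.primeCompl x
      have hu : IsUnit (algebraMap A C (s : A)) := IsLocalization.map_units C s
      have hap : a ∈ p := Alg6.mem_maximalIdeal_iff p |>.1 (has ▸ Ideal.mul_mem_right _ _ hx)
      refine ⟨as ++ [a], by simp [hlen], fun b hb => ?_, (isWeaklyRegular_map_algebraMap_iff C Mp _).1 ?_⟩
      · rcases List.mem_append.1 hb with hb | hb
        · exact hmem b hb
        · rw [List.mem_singleton] at hb; exact hb ▸ hap
      · rw [List.map_append, List.map_singleton, LC.isWeaklyRegular_concat_iff, ← has]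
        exact ⟨hrs, hxreg.mul (hu.isSMulRegular _)⟩
  obtain ⟨as, hlen, hmem, hreg⟩ := hseq r le_rfl
  obtain ⟨g, hg, hgreg⟩ := exists_away p as hreg
  let Ag := Localization.Away g
  let Mg := LocalizedModule (Submonoid.powers g) M
  let fg := LocalizedModule.mkLinearMap (Submonoid.powers g) M
  haveI : Module.Finite Ag Mg := Module.Finite.of_isLocalizedModule (Submonoid.powers g) fg
  let rs := as.map (algebraMap A Ag)
  have hrs : IsWeaklyRegular Mg rs := (isWeaklyRegular_map_algebraMap_iff Ag Mg as).2 hgreg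
  refine ⟨g, rs, by simp [rs, hlen], hrs, ?_⟩
  let J := Ideal.ofList as
  have hJ : Ideal.ofList rs = J.map (algebraMap A Ag) := (Ideal.map_ofList _ _).symm
  let Qt := Mg ⧸ (Ideal.ofList rs • ⊤ : Submodule Ag Mg)
  let mk : M → Qt := fun x => Submodule.Quotient.mk (fg x)
  have hmk : ∀ (b : A) (x : M), algebraMap A Ag b • mk x = 0 ↔
      ∃ n : ℕ, g ^ n • b • x ∈ (J • ⊤ : Submodule A M) := by
    intro b x
    rw [← Submodule.Quotient.mk_smul, Submodule.Quotient.mk_eq_zero, hJ, restrictScalars_smul_top,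
      algebraMap_smul, ← map_smul, mem_smul_top_iff (Submonoid.powers g) fg]
    exact ⟨fun ⟨s, ⟨n, hn⟩, h⟩ => ⟨n, by subst hn; exact h⟩, fun ⟨n, h⟩ => ⟨_, ⟨n, rfl⟩, h⟩⟩
  have hdiv : ∀ (P : Ideal A), P.IsPrime → g ∉ P → ∀ y : Ag, ∀ x : M, y • mk x = 0 →
      (∀ b, ∀ n : ℕ, g ^ n • b • x ∈ (J • ⊤ : Submodule A M) → b ∈ P) → y ∈ P.map (algebraMap A Ag) := by
    intro P hP hgP y x hy hx
    obtain ⟨⟨b, s⟩, hb⟩ := IsLocalization.surj (Submonoid.powers g) y
    have hb0 : algebraMap A Ag b • mk x = 0 := by rw [← hb, mul_comm, mul_smul, hy, smul_zero]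
    obtain ⟨n, hn⟩ := (hmk b x).1 hb0
    exact (IsLocalization.mem_map_algebraMap_iff (Submonoid.powers g) Ag).2 ⟨(⟨b, hx b n hn⟩, s), hb⟩
  have hdis : ∀ (P : Ideal A) [P.IsPrime], g ∉ P → Disjoint (Submonoid.powers g : Set A) P := fun P _ hgP => by
    rw [Set.disjoint_left]
    rintro _ ⟨n, rfl⟩ h
    exact hgP (Ideal.IsPrime.mem_of_pow_mem ‹_› n h)
  -- the closed point of the depth zero quotient
  let rsp := as.map (algebraMap A C)
  have hrsp : IsWeaklyRegular Mp rsp := (isWeaklyRegular_map_algebraMap_iff C Mp as).2 hreg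
  have hmemp : ∀ x ∈ rsp, x ∈ maximalIdeal C := by
    intro x hx
    obtain ⟨a, ha, rfl⟩ := List.mem_map.1 hx
    exact Alg6.mem_maximalIdeal_iff p |>.2 (hmem a ha)
  have hJp : Ideal.ofList rsp = J.map (algebraMap A C) := (Ideal.map_ofList _ _).symm
  have hass : maximalIdeal C ∈ associatedPrimes C (Mp ⧸ (Ideal.ofList rsp • ⊤ : Submodule C Mp)) := by
    by_contra hn
    have h1 := Alg6.one_le_depth_iff.2 hn
    have h0 := LC.idealDepth_quot_ofList (I := maximalIdeal C) hrsp hmemp
    rw [List.length_map, hlen] at h0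
    rw [LocCoh.depth, ← h0] at hd
    rw [LocCoh.depth] at h1
    have h5 : (1 : ℕ∞) + r ≤ r := (add_le_add_left h1 _).trans hd.le
    have : 1 + r ≤ r := by exact_mod_cast h5
    omega
  obtain ⟨-, z, hz⟩ := Alg6.mem_ass_iff.1 hass
  obtain ⟨z, rfl⟩ := Submodule.Quotient.mk_surjective _ z
  obtain ⟨⟨x, s⟩, hxs⟩ := IsLocalizedModule.surj p.primeCompl fp z
  have hkey : ∀ b : A, b ∈ p ↔ ∃ c ∉ p, c • b • x ∈ (J • ⊤ : Submodule A M) := by
    intro b
    rw [← Alg6.mem_maximalIdeal_iff (R := A) p, hz, ← Submodule.Quotient.mk_smul, Submodule.Quotient.mk_eq_zero,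
      hJp, restrictScalars_smul_top, algebraMap_smul]
    refine Iff.trans ?_ ((mem_smul_top_iff p.primeCompl fp J (b • x)).trans Iff.rfl)
    rw [map_smul, ← hxs]
    refine ⟨fun h => ?_, fun h => ?_⟩
    · show b • (s : A) • z ∈ _
      rw [smul_comm]
      exact Submodule.smul_mem _ _ h
    · have h2 : fp (b • x) ∈ (J • ⊤ : Submodule A Mp) := by rw [map_smul, ← hxs]; exact h
      obtain ⟨c, hc, hcx⟩ := (mem_smul_top_iff p.primeCompl fp J (b • x)).1 h2
      obtain ⟨e, he⟩ := IsLocalizedModule.map_units fp ⟨c * s, mul_mem hc s.2⟩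
      have h3 : (c * s : A) • b • z ∈ (J • ⊤ : Submodule A Mp) := by
        rw [mul_smul, smul_comm (s : A) b, show (s : A) • z = fp x from hxs, ← map_smul, ← map_smul]
        exact (mem_smul_top_iff p.primeCompl fp J _).2 ⟨1, one_mem _, by rw [one_smul]; exact hcx⟩
      have h4 : ∀ w ∈ (J • ⊤ : Submodule A Mp), (↑e⁻¹ : Module.End A Mp) w ∈ (J • ⊤ : Submodule A Mp) := by
        intro w hw
        refine Submodule.smul_induction_on hw (fun r hr n _ => ?_) (fun a b ha hb => ?_)
        · rw [map_smul]; exact Submodule.smul_mem_smul hr Submodule.mem_top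
        · rw [map_add]; exact add_mem ha hb
      have h5 := h4 _ h3
      rwa [show (c * s : A) • b • z = (e : Module.End A Mp) (b • z) by rw [he]; rfl, ← Module.End.mul_apply,
        e.inv_mul, Module.End.one_apply] at h5
  obtain ⟨T, hT⟩ := p.fg_of_isNoetherianRing
  have hT' : ∀ b ∈ T, ∃ c ∉ p, c • b • x ∈ (J • ⊤ : Submodule A M) := fun b hb =>
    (hkey b).1 (hT ▸ Submodule.subset_span hb)
  choose! c hc hcx using hT'
  let x₁ := (∏ b ∈ T, c b) • x
  have hc0 : (∏ b ∈ T, c b) ∉ p := show _ ∈ p.primeCompl from prod_mem fun b hb => hc b hb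
  have hx₁ : ∀ b : A, b ∈ p → b • x₁ ∈ (J • ⊤ : Submodule A M) := by
    intro b hb
    rw [← hT] at hb
    induction hb using Submodule.span_induction with
    | mem y hy =>
      obtain ⟨d, hd'⟩ := Finset.dvd_prod_of_mem c hy
      rw [show y • x₁ = d • c y • y • x by simp only [x₁, hd', smul_smul]; ring_nf]
      exact Submodule.smul_mem _ _ (hcx y hy)
    | zero => rw [zero_smul]; exact zero_mem _
    | add a b _ _ ha hb => rw [add_smul]; exact add_mem ha hb
    | smul e a _ ha => rw [smul_eq_mul, mul_smul]; exact Submodule.smul_mem _ _ ha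
  have hx₁' : ∀ b, ∀ n : ℕ, g ^ n • b • x₁ ∈ (J • ⊤ : Submodule A M) → b ∈ p := by
    intro b n h
    refine (hkey b).2 ⟨g ^ n * ∏ b ∈ T, c b, ?_, ?_⟩
    · exact (p.primeCompl).mul_mem (pow_mem (show g ∈ p.primeCompl from hg) n) hc0
    · rw [mul_smul, smul_comm (∏ b ∈ T, c b) b x]; exact h
  haveI hPp : (p.map (algebraMap A Ag)).IsPrime :=
    IsLocalization.isPrime_of_isPrime_disjoint (Submonoid.powers g) Ag p inferInstance (hdis p hg)
  have hP : p.map (algebraMap A Ag) ∈ associatedPrimes Ag Qt := by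
    refine Alg6.mem_ass_iff.2 ⟨hPp, mk x₁, fun y => ⟨fun hy => ?_, fun hy => hdiv p inferInstance hg y x₁ hy hx₁'⟩⟩
    rw [Ideal.map] at hy
    induction hy using Submodule.span_induction with
    | mem w hw =>
      obtain ⟨b, hb, rfl⟩ := hw
      exact (hmk b x₁).2 ⟨0, by rw [pow_zero, one_smul]; exact hx₁ b hb⟩
    | zero => rw [zero_smul]
    | add a b _ _ ha hb => rw [add_smul, ha, hb, add_zero]
    | smul e a _ ha => rw [smul_eq_mul, mul_smul, ha, smul_zero]
  refine ⟨_, hP, ?_⟩
  -- a strictly smaller point of the support of the quotient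
  obtain ⟨q, hqp, hqJ, hqM⟩ : ∃ q : PrimeSpectrum A, q.asIdeal < p ∧ J ≤ q.asIdeal ∧ q ∈ Module.support A M := by
    by_contra! hno
    have hdim0 : Module.supportDim C (Mp ⧸ (Ideal.ofList rsp • ⊤ : Submodule C Mp)) ≤ 0 := by
      have hsub : Subsingleton (Module.support C (Mp ⧸ (Ideal.ofList rsp • ⊤ : Submodule C Mp))) := by
        have key : ∀ y : PrimeSpectrum C, y ∈ Module.support C (Mp ⧸ (Ideal.ofList rsp • ⊤ : Submodule C Mp)) →
            y.asIdeal = maximalIdeal C := by
          intro y hy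
          rw [Module.support_quotient] at hy
          let q : PrimeSpectrum A := PrimeSpectrum.comap (algebraMap A C) y
          have hqJ : J ≤ q.asIdeal := Ideal.map_le_iff_le_comap.1 (hJp ▸ hy.2)
          have hqM : q ∈ Module.support A M := by
            refine (Set.ext_iff.1 Module.support_eq_zeroLocus _).2 fun a ha => ?_
            show algebraMap A C a ∈ y.asIdeal
            refine ((Set.ext_iff.1 Module.support_eq_zeroLocus _).1 hy.1) (Module.mem_annihilator.2 fun z => ?_)
            induction z using LocalizedModule.induction_on with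
            | h z s => rw [algebraMap_smul, LocalizedModule.smul'_mk, Module.mem_annihilator.1 ha z, LocalizedModule.zero_mk]
          have hqle : q.asIdeal ≤ p := fun a ha => by
            by_contra hap
            exact y.isPrime.ne_top (Ideal.eq_top_of_isUnit_mem _ ha (IsLocalization.map_units C (⟨a, hap⟩ : p.primeCompl)))
          have hqeq : q.asIdeal = p := hqle.eq_or_lt.resolve_right fun h => hno q h hqJ hqM
          refine ((maximalIdeal.isMaximal C).eq_of_le y.isPrime.ne_top ?_).symm
          rw [← Localization.AtPrime.map_eq_maximalIdeal, Ideal.map_le_iff_le_comap]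
          exact hqeq.ge
        exact ⟨fun a b => Subtype.ext (PrimeSpectrum.ext ((key _ a.2).trans (key _ b.2).symm))⟩
      exact Order.krullDim_nonpos_of_subsingleton
    have heq := Module.supportDim_add_length_eq_supportDim_of_isRegular rsp
      ((IsLocalRing.isRegular_iff_isWeaklyRegular_of_subset_maximalIdeal hmemp).2 hrsp)
    rw [List.length_map, hlen] at heq
    rw [← heq] at hdim
    exact (add_le_add_left hdim0 (r : WithBot ℕ∞)).not_gt (by rwa [zero_add])
  have hgq : g ∉ q.asIdeal := fun h => hg (hqp.le h)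
  haveI : (q.asIdeal.map (algebraMap A Ag)).IsPrime :=
    IsLocalization.isPrime_of_isPrime_disjoint (Submonoid.powers g) Ag q.asIdeal q.2 (hdis q.asIdeal hgq)
  have hqQt : (⟨q.asIdeal.map (algebraMap A Ag), inferInstance⟩ : PrimeSpectrum Ag) ∈ Module.support Ag Qt := by
    rw [Module.support_quotient]
    refine ⟨?_, ?_⟩
    · obtain ⟨m₀, hm₀⟩ := Module.mem_support_iff'.1 hqM
      refine Module.mem_support_iff'.2 ⟨fg m₀, fun y hy h0 => hy ?_⟩
      obtain ⟨⟨b, t⟩, hb⟩ := IsLocalization.surj (Submonoid.powers g) y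
      have hb0 : fg (b • m₀) = fg 0 := by
        rw [map_smul, map_zero, ← algebraMap_smul Ag b, ← hb, mul_comm, mul_smul, h0, smul_zero]
      obtain ⟨⟨_, n, rfl⟩, hn⟩ := (IsLocalizedModule.eq_iff_exists (Submonoid.powers g) fg).1 hb0
      simp only [Submonoid.smul_def, smul_zero] at hn
      have hbq : b ∈ q.asIdeal := by
        by_contra hbq
        refine hm₀ (g ^ n * b) (fun h => (q.2.mem_or_mem h).elim
          (fun h => hgq (q.2.mem_of_pow_mem n h)) hbq) ?_
        rw [mul_smul, hn]
      exact (IsLocalization.mem_map_algebraMap_iff (Submonoid.powers g) Ag).2 ⟨(⟨b, hbq⟩, t), hb⟩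
    · show ((Ideal.ofList rs : Ideal Ag) : Set Ag) ⊆ _
      rw [hJ]
      exact Ideal.map_mono hqJ
  haveI : Module.Finite Ag Qt := inferInstance
  obtain ⟨Q₀, hQ₀, hle⟩ := Ideal.exists_minimalPrimes_le (I := Module.annihilator Ag Qt)
    (J := q.asIdeal.map (algebraMap A Ag)) ((Set.ext_iff.1 Module.support_eq_zeroLocus _).1 hqQt)
  refine ⟨Q₀, Module.associatedPrimes.minimalPrimes_annihilator_subset_associatedPrimes Ag Qt hQ₀,
    hle.trans (Ideal.map_mono hqp.le), fun e => ?_⟩
  have h6 := e.symm.le.trans hle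
  obtain ⟨b, hb, hbq⟩ := SetLike.exists_of_lt hqp
  obtain ⟨⟨⟨a, ha⟩, t⟩, hat⟩ := (IsLocalization.mem_map_algebraMap_iff (Submonoid.powers g) Ag).1
    (h6 (Ideal.mem_map_of_mem _ hb))
  rw [← map_mul, IsLocalization.eq_iff_exists (Submonoid.powers g) Ag] at hat
  obtain ⟨⟨_, n, rfl⟩, hn⟩ := hat
  obtain ⟨_, m, rfl⟩ := t
  simp only at hn
  have h7 : g ^ n * (b * g ^ m) ∈ q.asIdeal := hn ▸ q.asIdeal.mul_mem_left _ ha
  rcases q.2.mem_or_mem h7 with h7 | h7
  · exact hgq (q.2.mem_of_pow_mem n h7)
  · exact (q.2.mem_or_mem h7).elim hbq fun h => hgq (q.2.mem_of_pow_mem m h)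

end Groth.Agent.H1Sk
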